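import Mathlib

/-!
# Lengths of localizations versus the length of the reduction modulo a radical element (helper5)

For `ϖ` in the Jacobson radical of `R` and a Noetherian `R`-module `K`:
the sum of the lengths of the localizations of `K` at finitely many distinct primes, each not
containing `ϖ` and minimal in the support of `K`, is at most the length of `K/ϖK`.
-/

set_option autoImplicit false
universe u v
open Ideal

namespace Groth.Agent.Lib.Helper5.MaxLen

variable {R : Type u} [CommRing R] (ϖ : R)

section Red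

variable (M : Type v) [AddCommGroup M] [Module R M]

/-- the submodule `ϖ M` -/
abbrev smulTop : Submodule R M := Ideal.span {ϖ} • (⊤ : Submodule R M)

/-- the reduction `M/ϖM` -/
abbrev Red : Type v := M ⧸ smulTop ϖ M

variable {M}

theorem mem_smulTop_iff (x : M) : x ∈ smulTop ϖ M ↔ ∃ m : M, x = ϖ • m := by
  constructor
  · intro hx
    refine Submodule.smul_induction_on hx ?_ ?_
    · intro r hr n _
      obtain ⟨a, rfl⟩ := Ideal.mem_span_singleton'.mp hr
      exact ⟨a • n, by rw [smul_smul, mul_comm]⟩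
    · rintro x y ⟨m, rfl⟩ ⟨m', rfl⟩
      exact ⟨m + m', by rw [smul_add]⟩
  · rintro ⟨m, rfl⟩
    exact Submodule.smul_mem_smul (Ideal.subset_span rfl) Submodule.mem_top

/-- the image of a submodule in the reduction -/
def red (P : Submodule R M) : Submodule R (Red ϖ M) := P.map (Submodule.mkQ _)

theorem red_mono {P P' : Submodule R M} (h : P ≤ P') : red ϖ P ≤ red ϖ P' :=
  Submodule.map_mono h

/-- **strictness**: for a finitely generated `ϖ`-saturated `P'` containing `P`, with `ϖ` in the
Jacobson radical, `red P' ≤ red P` forces `P' ≤ P` -/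
theorem le_of_red_le (hϖ : ϖ ∈ jacobson (⊥ : Ideal R)) {P P' : Submodule R M} (hPP' : P ≤ P')
    (hfg : P'.FG) (hsat : ∀ m : M, ϖ • m ∈ P' → m ∈ P') (h : red ϖ P' ≤ red ϖ P) : P' ≤ P := by
  apply Submodule.le_of_le_smul_of_le_jacobson_bot (I := Ideal.span {ϖ}) hfg
  · rw [Ideal.span_le]
    intro x hx
    rw [Set.mem_singleton_iff] at hx
    rw [hx]
    exact hϖ
  · intro n hn
    have h1 : Submodule.mkQ (smulTop ϖ M) n ∈ red ϖ P' := Submodule.mem_map_of_mem hn
    obtain ⟨a, ha, hae⟩ := h h1
    have h2 : n - a ∈ smulTop ϖ M := by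
      rw [← Submodule.Quotient.mk_eq_zero, Submodule.Quotient.mk_sub, sub_eq_zero]
      exact hae.symm
    obtain ⟨m, hm⟩ := (mem_smulTop_iff ϖ _).mp h2
    have h3 : ϖ • m ∈ P' := by
      rw [← hm]
      exact P'.sub_mem hn (hPP' ha)
    have h4 : m ∈ P' := hsat m h3
    have h5 : n = a + ϖ • m := by rw [← hm]; abel
    rw [h5]
    exact Submodule.add_mem_sup ha (Submodule.smul_mem_smul (Ideal.subset_span rfl) h4)

end Red

section Loc

variable {M : Type v} [AddCommGroup M] [Module R M] [IsNoetherian R M]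
  {S : Type*} [CommRing S] [Algebra R S] {N : Type*} [AddCommGroup N] [Module R N] [Module S N]
  [IsScalarTower R S N] (T : Submonoid R) [IsLocalization T S] (ψ : M →ₗ[R] N)
  [IsLocalizedModule T ψ]

/-- the map on submodule lattices used to compare lengths -/
def pullRed (W : Submodule S N) : Submodule R (Red ϖ M) :=
  red ϖ ((W.restrictScalars R).comap ψ)

include T in
theorem pullRed_strictMono (hϖ : ϖ ∈ jacobson (⊥ : Ideal R)) (hT : ϖ ∈ T) :
    StrictMono (pullRed (S := S) ϖ ψ) := by
  have hmono : Monotone (pullRed (S := S) ϖ ψ) := by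
    intro W W' h
    exact red_mono ϖ (Submodule.comap_mono (fun x hx => h hx))
  intro W W' hlt
  refine lt_of_le_of_ne (hmono hlt.le) ?_
  intro heq
  apply hlt.not_ge
  -- comap W' ≤ comap W
  have h1 : (W'.restrictScalars R).comap ψ ≤ (W.restrictScalars R).comap ψ := by
    refine le_of_red_le ϖ hϖ (P := (W.restrictScalars R).comap ψ)
      (P' := (W'.restrictScalars R).comap ψ) (Submodule.comap_mono (fun x hx => hlt.le hx))
      (IsNoetherian.noetherian _) ?_ ?_
    · intro m hm
      -- ϖ acts invertibly on N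
      have hu : IsUnit (algebraMap R S ϖ) := IsLocalization.map_units S ⟨ϖ, hT⟩
      obtain ⟨v, hv⟩ := hu
      have h2 : ϖ • ψ m ∈ W' := by
        have : ψ (ϖ • m) ∈ W' := hm
        rwa [map_smul] at this
      have h3 : (↑v⁻¹ : S) • (ϖ • ψ m) = ψ m := by
        rw [← algebraMap_smul S ϖ (ψ m), ← hv, smul_smul, Units.inv_mul, one_smul]
      show ψ m ∈ W'
      rw [← h3]
      exact W'.smul_mem _ h2
    · exact heq.ge
  intro n' hn'
  obtain ⟨⟨m, s⟩, hms⟩ := IsLocalizedModule.surj T ψ n'
  have h2 : ψ m ∈ W' := by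
    rw [← hms]
    have : (s : R) • n' ∈ W'.restrictScalars R := (W'.restrictScalars R).smul_mem _ hn'
    exact this
  have h3 : ψ m ∈ W := h1 h2
  have hu : IsUnit (algebraMap R S (s : R)) := IsLocalization.map_units S s
  obtain ⟨v, hv⟩ := hu
  have h4 : (↑v⁻¹ : S) • ((s : R) • n') = n' := by
    rw [← algebraMap_smul S (s : R) n', ← hv, smul_smul, Units.inv_mul, one_smul]
  rw [← h4]
  apply W.smul_mem
  have : (s : R) • n' = ψ m := hms
  rw [this]
  exact h3

omit [IsLocalizedModule T ψ] in
/-- **Claim C**: the length of a localization at a multiplicative set containing `ϖ` is at most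
the length of `M/ϖM` -/
theorem length_localized_le (hϖ : ϖ ∈ jacobson (⊥ : Ideal R)) (hT : ϖ ∈ T)
    (ψ : M →ₗ[R] N) [IsLocalizedModule T ψ] :
    Module.length S N ≤ Module.length R (Red ϖ M) := by
  have h := Order.krullDim_le_of_strictMono _ (pullRed_strictMono (S := S) ϖ T ψ hϖ hT)
  rw [← Module.coe_length, ← Module.coe_length] at h
  exact WithBot.coe_le_coe.mp h

end Loc

end Groth.Agent.Lib.Helper5.MaxLen
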