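import Mathlib
import Groth.Agent.Lib.Helper5.MaxLen.Chain

/-!
# Sum of lengths of localizations at distinct minimal primes (helper5)
-/

set_option autoImplicit false
universe u v w
open Ideal

namespace Groth.Agent.Lib.Helper5.MaxLen

variable {R : Type u} [CommRing R] (ϖ : R)

section Additive

variable {K : Type v} [AddCommGroup K] [Module R K] (K' : Submodule R K)

theorem smulTop_le_comap_subtype : smulTop ϖ K' ≤ (smulTop ϖ K).comap K'.subtype := by
  intro x hx
  obtain ⟨m, rfl⟩ := (mem_smulTop_iff ϖ x).mp hx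
  show K'.subtype (ϖ • m) ∈ smulTop ϖ K
  rw [map_smul]
  exact (mem_smulTop_iff ϖ _).mpr ⟨_, rfl⟩

theorem smulTop_le_comap_mkQ : smulTop ϖ K ≤ (smulTop ϖ (K ⧸ K')).comap K'.mkQ := by
  intro x hx
  obtain ⟨m, rfl⟩ := (mem_smulTop_iff ϖ x).mp hx
  show K'.mkQ (ϖ • m) ∈ smulTop ϖ (K ⧸ K')
  rw [map_smul]
  exact (mem_smulTop_iff ϖ _).mpr ⟨_, rfl⟩

/-- `K'/ϖK' ⟶ K/ϖK` -/
noncomputable def redIncl : Red ϖ K' →ₗ[R] Red ϖ K :=
  Submodule.mapQ _ _ K'.subtype (smulTop_le_comap_subtype ϖ K')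

/-- `K/ϖK ⟶ (K/K')/ϖ(K/K')` -/
noncomputable def redProj : Red ϖ K →ₗ[R] Red ϖ (K ⧸ K') :=
  Submodule.mapQ _ _ K'.mkQ (smulTop_le_comap_mkQ ϖ K')

theorem redIncl_injective (hsat : ∀ k : K, ϖ • k ∈ K' → k ∈ K') :
    Function.Injective (redIncl ϖ K') := by
  rw [injective_iff_map_eq_zero]
  intro x hx
  obtain ⟨k', rfl⟩ := Submodule.mkQ_surjective _ x
  have h1 : (K'.subtype k' : K) ∈ smulTop ϖ K := by
    have : redIncl ϖ K' (Submodule.mkQ _ k') = Submodule.mkQ _ (K'.subtype k') := rfl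
    rw [this] at hx
    exact (Submodule.Quotient.mk_eq_zero _).mp hx
  obtain ⟨m, hm⟩ := (mem_smulTop_iff ϖ _).mp h1
  have hmK' : m ∈ K' := hsat m (by rw [← hm]; exact k'.2)
  apply (Submodule.Quotient.mk_eq_zero _).mpr
  rw [mem_smulTop_iff]
  refine ⟨⟨m, hmK'⟩, ?_⟩
  apply Subtype.ext
  exact hm

theorem redProj_surjective : Function.Surjective (redProj ϖ K') := by
  intro y
  obtain ⟨z, rfl⟩ := Submodule.mkQ_surjective _ y
  obtain ⟨k, rfl⟩ := Submodule.mkQ_surjective _ z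
  exact ⟨Submodule.mkQ _ k, rfl⟩

theorem redIncl_redProj_exact : Function.Exact (redIncl ϖ K') (redProj ϖ K') := by
  intro y
  constructor
  · intro hy
    obtain ⟨k, rfl⟩ := Submodule.mkQ_surjective _ y
    have h1 : K'.mkQ k ∈ smulTop ϖ (K ⧸ K') := by
      have : redProj ϖ K' (Submodule.mkQ _ k) = Submodule.mkQ _ (K'.mkQ k) := rfl
      rw [this] at hy
      exact (Submodule.Quotient.mk_eq_zero _).mp hy
    obtain ⟨z, hz⟩ := (mem_smulTop_iff ϖ _).mp h1
    obtain ⟨k₂, rfl⟩ := Submodule.mkQ_surjective _ z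
    have h2 : k - ϖ • k₂ ∈ K' := by
      rw [← Submodule.Quotient.mk_eq_zero, Submodule.Quotient.mk_sub, sub_eq_zero]
      exact hz
    refine ⟨Submodule.mkQ _ ⟨k - ϖ • k₂, h2⟩, ?_⟩
    show Submodule.mkQ (smulTop ϖ K) (k - ϖ • k₂) = Submodule.mkQ _ k
    rw [map_sub, sub_eq_self]
    exact (Submodule.Quotient.mk_eq_zero _).mpr ((mem_smulTop_iff ϖ _).mpr ⟨_, rfl⟩)
  · rintro ⟨x, rfl⟩
    obtain ⟨k', rfl⟩ := Submodule.mkQ_surjective _ x
    show Submodule.mkQ (smulTop ϖ (K ⧸ K')) (K'.mkQ (K'.subtype k')) = 0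
    have : K'.mkQ (K'.subtype k') = 0 := (Submodule.Quotient.mk_eq_zero _).mpr k'.2
    rw [this, map_zero]

/-- **Claim E** -/
theorem length_red_eq_add (hsat : ∀ k : K, ϖ • k ∈ K' → k ∈ K') :
    Module.length R (Red ϖ K) = Module.length R (Red ϖ K') + Module.length R (Red ϖ (K ⧸ K')) :=
  Module.length_eq_add_of_exact (redIncl ϖ K') (redProj ϖ K') (redIncl_injective ϖ K' hsat)
    (redProj_surjective ϖ K') (redIncl_redProj_exact ϖ K')

end Additive

end Groth.Agent.Lib.Helper5.MaxLen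

namespace Groth.Agent.Lib.Helper5.MaxLen

variable {R : Type u} [CommRing R] (ϖ : R)

section Helpers

variable {K : Type v} [AddCommGroup K] [Module R K]

/-- the quotient by the kernel of a localization map is again localized by the induced map -/
theorem isLocalizedModule_liftQ_ker (T : Submonoid R) {N : Type*} [AddCommGroup N] [Module R N]
    (ψ : K →ₗ[R] N) [IsLocalizedModule T ψ] :
    IsLocalizedModule T ((LinearMap.ker ψ).liftQ ψ le_rfl) where
  map_units := IsLocalizedModule.map_units ψ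
  surj y := by
    obtain ⟨⟨k, s⟩, hks⟩ := IsLocalizedModule.surj T ψ y
    exact ⟨⟨Submodule.mkQ _ k, s⟩, hks⟩
  exists_of_eq := by
    intro x₁ x₂ h
    obtain ⟨k₁, rfl⟩ := Submodule.mkQ_surjective _ x₁
    obtain ⟨k₂, rfl⟩ := Submodule.mkQ_surjective _ x₂
    have h' : ψ k₁ = ψ k₂ := h
    obtain ⟨c, hc⟩ := IsLocalizedModule.exists_of_eq (S := T) h'
    refine ⟨c, ?_⟩
    show (c : R) • (LinearMap.ker ψ).mkQ k₁ = (c : R) • (LinearMap.ker ψ).mkQ k₂
    have hc' : (c : R) • k₁ = (c : R) • k₂ := hc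
    rw [← map_smul, ← map_smul, hc']

/-- two distinct primes, each minimal among the primes of the support below it: every element is
killed by a product of elements outside the two primes -/
theorem exists_mul_smul_eq_zero (q₁ q₂ : Ideal R) [q₁.IsPrime] [q₂.IsPrime] (hne : q₁ ≠ q₂)
    (hmin₁ : ∀ r : Ideal R, r.IsPrime → (∃ k : K, (Submodule.span R {k}).annihilator ≤ r) →
      r ≤ q₁ → r = q₁)
    (hmin₂ : ∀ r : Ideal R, r.IsPrime → (∃ k : K, (Submodule.span R {k}).annihilator ≤ r) →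
      r ≤ q₂ → r = q₂) (k : K) :
    ∃ u ∈ q₁.primeCompl, ∃ v ∈ q₂.primeCompl, (u * v) • k = 0 := by
  by_contra hcon
  push Not at hcon
  have hdisj : Disjoint ((Submodule.span R {k}).annihilator : Set R)
      ((q₁.primeCompl ⊔ q₂.primeCompl : Submonoid R) : Set R) := by
    rw [Set.disjoint_left]
    intro x hx hxT
    obtain ⟨u, hu, v, hv, rfl⟩ := Submonoid.mem_sup.mp hxT
    apply hcon u hu v hv
    exact (Submodule.mem_annihilator_span_singleton _ _).mp hx
  obtain ⟨r, hr, hIr, hrT⟩ := Ideal.exists_le_prime_disjoint _ _ hdisj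
  have h1 : r ≤ q₁ := by
    intro x hx
    by_contra hxq
    exact Set.disjoint_left.mp hrT hx (Submonoid.mem_sup_left hxq)
  have h2 : r ≤ q₂ := by
    intro x hx
    by_contra hxq
    exact Set.disjoint_left.mp hrT hx (Submonoid.mem_sup_right hxq)
  exact hne ((hmin₁ r hr ⟨k, hIr⟩ h1).symm.trans (hmin₂ r hr ⟨k, hIr⟩ h2))

/-- restricting a localization map at `q₁` to the kernel of a localization map at `q₂` -/
theorem isLocalizedModule_comp_subtype_ker (q₁ q₂ : Ideal R) [q₁.IsPrime] [q₂.IsPrime]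
    (hne : q₁ ≠ q₂)
    (hmin₁ : ∀ r : Ideal R, r.IsPrime → (∃ k : K, (Submodule.span R {k}).annihilator ≤ r) →
      r ≤ q₁ → r = q₁)
    (hmin₂ : ∀ r : Ideal R, r.IsPrime → (∃ k : K, (Submodule.span R {k}).annihilator ≤ r) →
      r ≤ q₂ → r = q₂)
    {N₁ N₂ : Type*} [AddCommGroup N₁] [Module R N₁] [AddCommGroup N₂] [Module R N₂]
    (ψ₁ : K →ₗ[R] N₁) [IsLocalizedModule q₁.primeCompl ψ₁]
    (ψ₂ : K →ₗ[R] N₂) [IsLocalizedModule q₂.primeCompl ψ₂] :
    IsLocalizedModule q₁.primeCompl (ψ₁.comp (LinearMap.ker ψ₂).subtype) where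
  map_units := IsLocalizedModule.map_units ψ₁
  surj y := by
    obtain ⟨⟨k, s⟩, hks⟩ := IsLocalizedModule.surj q₁.primeCompl ψ₁ y
    obtain ⟨u, hu, v, hv, huv⟩ := exists_mul_smul_eq_zero q₁ q₂ hne hmin₁ hmin₂ k
    have hk' : u • k ∈ LinearMap.ker ψ₂ := by
      rw [LinearMap.mem_ker, IsLocalizedModule.eq_zero_iff q₂.primeCompl]
      refine ⟨⟨v, hv⟩, ?_⟩
      show v • (u • k) = 0
      rw [smul_smul, mul_comm]
      exact huv
    refine ⟨⟨⟨u • k, hk'⟩, ⟨u, hu⟩ * s⟩, ?_⟩
    show ((⟨u, hu⟩ * s : q₁.primeCompl) : R) • y = ψ₁ (u • k)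
    rw [Submonoid.coe_mul, mul_smul, map_smul]
    congr 1
  exists_of_eq := by
    intro x₁ x₂ h
    have h' : ψ₁ (x₁ : K) = ψ₁ (x₂ : K) := h
    obtain ⟨c, hc⟩ := IsLocalizedModule.exists_of_eq (S := q₁.primeCompl) h'
    exact ⟨c, Subtype.ext hc⟩

/-- the kernel of a localization map at a multiplicative set containing `ϖ` is `ϖ`-saturated -/
theorem ker_saturated (T : Submonoid R) (hT : ϖ ∈ T) {N : Type*} [AddCommGroup N] [Module R N]
    (ψ : K →ₗ[R] N) [IsLocalizedModule T ψ] (k : K) (hk : ϖ • k ∈ LinearMap.ker ψ) :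
    k ∈ LinearMap.ker ψ := by
  rw [LinearMap.mem_ker, IsLocalizedModule.eq_zero_iff T] at hk ⊢
  obtain ⟨s, hs⟩ := hk
  refine ⟨s * ⟨ϖ, hT⟩, ?_⟩
  show ((s * ⟨ϖ, hT⟩ : T) : R) • k = 0
  rw [Submonoid.coe_mul, mul_smul]
  exact hs

end Helpers

end Groth.Agent.Lib.Helper5.MaxLen

namespace Groth.Agent.Lib.Helper5.MaxLen

variable {R : Type u} [CommRing R] (ϖ : R)

/-- **the local inequality**: for `ϖ` in the Jacobson radical and a Noetherian module `K`, the sum of
the lengths of the localizations of `K` at finitely many distinct primes not containing `ϖ`, each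
minimal among the primes of the support of `K`, is at most the length of `K/ϖK`. -/
theorem sum_length_le (hϖ : ϖ ∈ jacobson (⊥ : Ideal R)) {ι : Type w} (q : ι → Ideal R)
    [∀ i, (q i).IsPrime]
    (S : ι → Type*) [∀ i, CommRing (S i)] [∀ i, Algebra R (S i)]
    [∀ i, IsLocalization.AtPrime (S i) (q i)]
    (N : ι → Type*) [∀ i, AddCommGroup (N i)] [∀ i, Module R (N i)] [∀ i, Module (S i) (N i)]
    [∀ i, IsScalarTower R (S i) (N i)] (J : Finset ι) :
    ∀ (K : Type v) [AddCommGroup K] [Module R K] [IsNoetherian R K] (ψ : ∀ i, K →ₗ[R] N i),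
      Set.InjOn q J → (∀ i ∈ J, ϖ ∉ q i) →
      (∀ i ∈ J, IsLocalizedModule (q i).primeCompl (ψ i)) →
      (∀ i ∈ J, ∀ r : Ideal R, r.IsPrime →
        (∃ k : K, (Submodule.span R {k}).annihilator ≤ r) → r ≤ q i → r = q i) →
      ∑ i ∈ J, Module.length (S i) (N i) ≤ Module.length R (Red ϖ K) := by
  classical
  induction J using Finset.induction_on with
  | empty =>
    intro K _ _ _ ψ _ _ _ _
    simp
  | insert a J' ha ih =>
    intro K _ _ _ ψ hinj hϖq hψ hmin
    haveI := hψ a (Finset.mem_insert_self a J')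
    have hϖa : ϖ ∈ (q a).primeCompl := hϖq a (Finset.mem_insert_self a J')
    have hsat := ker_saturated ϖ (q a).primeCompl hϖa (ψ a)
    have hE := length_red_eq_add ϖ (LinearMap.ker (ψ a)) hsat
    haveI := isLocalizedModule_liftQ_ker (q a).primeCompl (ψ a)
    have hC : Module.length (S a) (N a) ≤ Module.length R (Red ϖ (K ⧸ LinearMap.ker (ψ a))) :=
      length_localized_le ϖ (q a).primeCompl hϖ hϖa ((LinearMap.ker (ψ a)).liftQ (ψ a) le_rfl)
    have hI := ih (↥(LinearMap.ker (ψ a))) (fun i => (ψ i).comp (LinearMap.ker (ψ a)).subtype)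
      (hinj.mono (by intro i hi; exact Finset.mem_insert_of_mem hi))
      (fun i hi => hϖq i (Finset.mem_insert_of_mem hi))
      (fun i hi => by
        haveI := hψ i (Finset.mem_insert_of_mem hi)
        have hne : q i ≠ q a := by
          intro h
          have := hinj (Finset.mem_coe.mpr (Finset.mem_insert_of_mem hi))
            (Finset.mem_coe.mpr (Finset.mem_insert_self a J')) h
          exact ha (this ▸ hi)
        exact isLocalizedModule_comp_subtype_ker (q i) (q a) hne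
          (hmin i (Finset.mem_insert_of_mem hi)) (hmin a (Finset.mem_insert_self a J'))
          (ψ i) (ψ a))
      (fun i hi r hr hk hrq => by
        obtain ⟨k', hk'⟩ := hk
        refine hmin i (Finset.mem_insert_of_mem hi) r hr ⟨(k' : K), ?_⟩ hrq
        intro x hx
        apply hk'
        rw [Submodule.mem_annihilator_span_singleton] at hx ⊢
        exact Subtype.ext hx)
    rw [Finset.sum_insert ha, hE, add_comm]
    exact add_le_add hI hC

end Groth.Agent.Lib.Helper5.MaxLen
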