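import Mathlib
import Groth.Agent.Lib.Helper5.MaxLen.Induct

/-!
# Sum of lengths of localizations at minimal primes below a prime `p` (helper5)
-/

set_option autoImplicit false
universe u v w
open Ideal

namespace Groth.Agent.Lib.Helper5.MaxLen

section Trans

variable {R : Type*} [CommRing R] {M M' M'' : Type*} [AddCommGroup M] [AddCommGroup M']
  [AddCommGroup M''] [Module R M] [Module R M'] [Module R M'']

/-- transitivity of localized modules: cancel the first localization -/
theorem isLocalizedModule_of_comp (T₁ T₂ : Submonoid R) (h : T₁ ≤ T₂) (f : M →ₗ[R] M')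
    [IsLocalizedModule T₁ f] (g : M' →ₗ[R] M'') [IsLocalizedModule T₂ (g ∘ₗ f)] :
    IsLocalizedModule T₂ g where
  map_units := IsLocalizedModule.map_units (g ∘ₗ f)
  surj y := by
    obtain ⟨⟨m, t⟩, e⟩ := IsLocalizedModule.surj T₂ (g ∘ₗ f) y
    exact ⟨⟨f m, t⟩, e⟩
  exists_of_eq {a b} e := by
    obtain ⟨⟨m₁, s₁⟩, e₁⟩ := IsLocalizedModule.surj T₁ f a
    obtain ⟨⟨m₂, s₂⟩, e₂⟩ := IsLocalizedModule.surj T₁ f b
    have e₁' : (s₁ : R) • a = f m₁ := e₁
    have e₂' : (s₂ : R) • b = f m₂ := e₂
    have h1 : (g ∘ₗ f) ((s₂ : R) • m₁) = (g ∘ₗ f) ((s₁ : R) • m₂) := by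
      rw [LinearMap.comp_apply, LinearMap.comp_apply, f.map_smul, f.map_smul, ← e₁', ← e₂',
        g.map_smul, g.map_smul, g.map_smul, g.map_smul, e]
      exact smul_comm _ _ _
    obtain ⟨c, hc⟩ := IsLocalizedModule.exists_of_eq (S := T₂) h1
    have hc' : (c : R) • (s₂ : R) • m₁ = (c : R) • (s₁ : R) • m₂ := hc
    refine ⟨c * ⟨s₁.1, h s₁.2⟩ * ⟨s₂.1, h s₂.2⟩, ?_⟩
    have h2 := congrArg f hc'
    rw [f.map_smul, f.map_smul, f.map_smul, f.map_smul, ← e₁', ← e₂'] at h2
    change ((c : R) * (s₁ : R) * (s₂ : R)) • a = ((c : R) * (s₁ : R) * (s₂ : R)) • b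
    rw [mul_smul, mul_smul, mul_smul, mul_smul, smul_comm (s₁ : R) (s₂ : R) a]
    exact h2

end Trans

section Main

variable {R : Type u} [CommRing R] [IsNoetherianRing R] (ϖ : R)
  (p : Ideal R) [p.IsPrime]
  (Sp : Type u) [CommRing Sp] [Algebra R Sp] [IsLocalization.AtPrime Sp p]
  {N : Type u} [AddCommGroup N] [Module R N] [Module.Finite R N]
  {Pp : Type u} [AddCommGroup Pp] [Module R Pp] [Module Sp Pp] [IsScalarTower R Sp Pp]
  (gp : N →ₗ[R] Pp) [IsLocalizedModule p.primeCompl gp]

include gp in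
/-- **the sum of the lengths of the localizations of `N` at distinct minimal primes `q i ≤ p` of its
support not containing `ϖ ∈ p` is at most the length of `N_p / ϖ N_p`** -/
theorem sum_length_le_atPrime (hϖp : ϖ ∈ p) {ι : Type w} (q : ι → Ideal R) [∀ i, (q i).IsPrime]
    (S : ι → Type u) [∀ i, CommRing (S i)] [∀ i, Algebra R (S i)]
    [∀ i, IsLocalization.AtPrime (S i) (q i)]
    (P : ι → Type u) [∀ i, AddCommGroup (P i)] [∀ i, Module R (P i)] [∀ i, Module (S i) (P i)]
    [∀ i, IsScalarTower R (S i) (P i)] (g : ∀ i, N →ₗ[R] P i)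
    [∀ i, IsLocalizedModule (q i).primeCompl (g i)]
    (J : Finset ι) (hinj : Set.InjOn q J) (hle : ∀ i, q i ≤ p) (hϖq : ∀ i, ϖ ∉ q i)
    (hmin : ∀ i, ∀ r : Ideal R, r.IsPrime →
      (∃ n : N, (Submodule.span R {n}).annihilator ≤ r) → r ≤ q i → r = q i) :
    ∑ i ∈ J, Module.length (S i) (P i) ≤
      Module.length Sp (Pp ⧸ smulTop (algebraMap R Sp ϖ) Pp) := by
  haveI : IsLocalRing Sp := IsLocalization.AtPrime.isLocalRing Sp p
  haveI : IsNoetherianRing Sp := IsLocalization.isNoetherianRing p.primeCompl Sp inferInstance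
  haveI : Module.Finite Sp Pp := Module.Finite.of_isLocalizedModule p.primeCompl gp
  haveI : IsNoetherian Sp Pp := isNoetherian_of_isNoetherianRing_of_finite Sp Pp
  have hdisj : ∀ i, Disjoint (p.primeCompl : Set R) (q i) := fun i =>
    Set.disjoint_left.mpr fun x hx hxq => hx (hle i hxq)
  have hunits : ∀ i, ∀ y : p.primeCompl, IsUnit (algebraMap R (S i) y) := fun i y =>
    IsLocalization.map_units (S i) (⟨y.1, fun hy => y.2 (hle i hy)⟩ : (q i).primeCompl)
  letI algS : ∀ i, Algebra Sp (S i) := fun i =>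
    (IsLocalization.lift (M := p.primeCompl) (g := algebraMap R (S i)) (hunits i)).toAlgebra
  haveI tower : ∀ i, IsScalarTower R Sp (S i) := fun i =>
    IsScalarTower.of_algebraMap_eq (fun r => (IsLocalization.lift_eq (hunits i) r).symm)
  letI modP : ∀ i, Module Sp (P i) := fun i => Module.compHom (P i) (algebraMap Sp (S i))
  haveI tower2 : ∀ i, IsScalarTower Sp (S i) (P i) := fun i => IsScalarTower.of_compHom _ _ _
  haveI tower3 : ∀ i, IsScalarTower R Sp (P i) := fun i => by
    refine ⟨fun r s x => ?_⟩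
    change algebraMap Sp (S i) (r • s) • x = r • (algebraMap Sp (S i) s • x)
    rw [Algebra.smul_def, map_mul, ← IsScalarTower.algebraMap_apply, mul_smul,
      algebraMap_smul]
  have hcomap : ∀ i, ((q i).map (algebraMap R Sp)).comap (algebraMap R Sp) = q i := fun i =>
    IsLocalization.under_map_of_isPrime_disjoint p.primeCompl Sp inferInstance (hdisj i)
  haveI hQprime : ∀ i, ((q i).map (algebraMap R Sp)).IsPrime := fun i =>
    IsLocalization.isPrime_of_isPrime_disjoint p.primeCompl Sp (q i) inferInstance (hdisj i)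
  -- the rings `S i` are the localizations of `Sp` at the primes `Q i`
  haveI hlocS : ∀ i, IsLocalization.AtPrime (S i) ((q i).map (algebraMap R Sp)) := fun i => by
    haveI h1 : IsLocalization ((q i).primeCompl.map (algebraMap R Sp)) (S i) :=
      IsLocalization.isLocalization_of_submonoid_le Sp (S i) p.primeCompl (q i).primeCompl
        (fun x hx hxq => hx (hle i hxq))
    refine IsLocalization.isLocalization_of_is_exists_mul_mem (S i)
      ((q i).primeCompl.map (algebraMap R Sp)) _ ?_ ?_
    · rintro _ ⟨x, hx, rfl⟩ hxQ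
      have : x ∈ ((q i).map (algebraMap R Sp)).comap (algebraMap R Sp) := hxQ
      rw [hcomap i] at this
      exact hx this
    · rintro ⟨x, hx⟩
      obtain ⟨⟨a, s⟩, e⟩ := IsLocalization.surj p.primeCompl x
      refine ⟨algebraMap R Sp s, a, ?_, ?_⟩
      · intro ha
        apply hx
        have h2 : algebraMap R Sp a ∈ (q i).map (algebraMap R Sp) := Ideal.mem_map_of_mem _ ha
        rw [← e] at h2
        exact (((hQprime i).mem_or_mem h2).resolve_right (fun h3 => by
          have : (s : R) ∈ ((q i).map (algebraMap R Sp)).comap (algebraMap R Sp) := h3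
          rw [hcomap i] at this
          exact s.2 (hle i this)))
      · simp only
        rw [← e, mul_comm]
  -- the comparison maps
  have hunitsP : ∀ i, ∀ x : p.primeCompl, IsUnit (algebraMap R (Module.End R (P i)) x) :=
    fun i x => IsLocalizedModule.map_units (g i)
      (⟨x.1, fun hx => x.2 (hle i hx)⟩ : (q i).primeCompl)
  let ψ₀ : ∀ i, Pp →ₗ[R] P i := fun i =>
    IsLocalizedModule.lift p.primeCompl gp (g i) (hunitsP i)
  have hψ₀ : ∀ i, ψ₀ i ∘ₗ gp = g i := fun i =>
    IsLocalizedModule.lift_comp p.primeCompl gp (g i) (hunitsP i)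
  let ψ : ∀ i, Pp →ₗ[Sp] P i := fun i =>
    (ψ₀ i).extendScalarsOfIsLocalization p.primeCompl Sp
  have hψloc : ∀ i, IsLocalizedModule ((q i).map (algebraMap R Sp)).primeCompl (ψ i) := fun i => by
    haveI h0 : IsLocalizedModule (q i).primeCompl (ψ₀ i ∘ₗ gp) := by
      rw [hψ₀ i]; infer_instance
    haveI h1 : IsLocalizedModule (q i).primeCompl (ψ₀ i) :=
      isLocalizedModule_of_comp p.primeCompl (q i).primeCompl (fun x hx hxq => hx (hle i hxq))
        gp (ψ₀ i)
    haveI h2 : IsLocalizedModule (q i).primeCompl ((ψ i).restrictScalars R) := h1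
    haveI h3 : IsLocalizedModule (Algebra.algebraMapSubmonoid Sp (q i).primeCompl) (ψ i) :=
      IsLocalizedModule.of_restrictScalars (q i).primeCompl (ψ i)
    refine IsLocalizedModule.of_exists_mul_mem
      (Algebra.algebraMapSubmonoid Sp (q i).primeCompl) _ ?_ ?_ (ψ i)
    · rintro _ ⟨x, hx, rfl⟩ hxQ
      have : x ∈ ((q i).map (algebraMap R Sp)).comap (algebraMap R Sp) := hxQ
      rw [hcomap i] at this
      exact hx this
    · rintro ⟨x, hx⟩
      obtain ⟨⟨a, s⟩, e⟩ := IsLocalization.surj p.primeCompl x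
      refine ⟨algebraMap R Sp s, a, ?_, ?_⟩
      · intro ha
        apply hx
        have h2 : algebraMap R Sp a ∈ (q i).map (algebraMap R Sp) := Ideal.mem_map_of_mem _ ha
        rw [← e] at h2
        exact (((hQprime i).mem_or_mem h2).resolve_right (fun h3 => by
          have : (s : R) ∈ ((q i).map (algebraMap R Sp)).comap (algebraMap R Sp) := h3
          rw [hcomap i] at this
          exact s.2 (hle i this)))
      · simp only
        rw [← e, mul_comm]
  have hϖ' : algebraMap R Sp ϖ ∈ jacobson (⊥ : Ideal Sp) := by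
    rw [IsLocalRing.jacobson_eq_maximalIdeal ⊥ bot_ne_top]
    exact (IsLocalization.AtPrime.to_map_mem_maximal_iff Sp p ϖ).mpr hϖp
  refine sum_length_le (R := Sp) (algebraMap R Sp ϖ) hϖ' (fun i => (q i).map (algebraMap R Sp))
    S P J Pp ψ ?_ ?_ (fun i _ => hψloc i) ?_
  · intro i hi j hj hij
    apply hinj hi hj
    have := congrArg (Ideal.comap (algebraMap R Sp)) hij
    simp only [hcomap] at this
    exact this
  · intro i _ hmem
    have : ϖ ∈ ((q i).map (algebraMap R Sp)).comap (algebraMap R Sp) := hmem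
    rw [hcomap i] at this
    exact hϖq i this
  · intro i _ r' hr' ⟨k, hk⟩ hr'Q
    have hrq : r'.comap (algebraMap R Sp) = q i := by
      refine hmin i _ (Ideal.comap_isPrime _ _) ?_ ?_
      · obtain ⟨⟨n, s⟩, e⟩ := IsLocalizedModule.surj p.primeCompl gp k
        have e' : (s : R) • k = gp n := e
        refine ⟨n, fun a ha => ?_⟩
        rw [Submodule.mem_annihilator_span_singleton] at ha
        apply hk
        rw [Submodule.mem_annihilator_span_singleton]
        have h1 : a • gp n = 0 := by rw [← gp.map_smul, ha, map_zero]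
        rw [← e', smul_comm] at h1
        have h2 := ((Module.End.isUnit_iff _).mp
          (IsLocalizedModule.map_units gp s)).1
        have h3 : a • k = 0 := h2 (by
          change (s : R) • a • k = (s : R) • (0 : Pp)
          rw [h1, smul_zero])
        rw [algebraMap_smul]
        exact h3
      · rw [← hcomap i]
        exact Ideal.comap_mono hr'Q
    have := IsLocalization.map_under p.primeCompl Sp r'
    rw [← this]
    exact congrArg (Ideal.map (algebraMap R Sp)) hrq

end Main

end Groth.Agent.Lib.Helper5.MaxLen
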