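import Mathlib
import Groth.Agent.Lib.Helper5.MaxLen.AlgA

/-!
# The maximal ideal is associated to `N/ϖN` (helper5)

`B` Noetherian local, `N` finite, `ϖ` an `N`-regular non-unit, `q ∈ Ass N` such that the maximal
ideal is the only prime containing `q + (ϖ)`: then the maximal ideal is associated to `N/ϖN`.
-/

set_option autoImplicit false
universe u v w
open Ideal IsLocalRing

namespace Groth.Agent.Lib.Helper5.MaxLen

section Local

variable {B : Type u} [CommRing B] [IsLocalRing B] [IsNoetherianRing B] (ϖ : B)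
  {N : Type v} [AddCommGroup N] [Module B N] [Module.Finite B N]

theorem maximalIdeal_mem_ass_red (hϖm : ϖ ∈ maximalIdeal B) (hreg : ∀ n : N, ϖ • n = 0 → n = 0)
    (q : Ideal B) (hq : q ∈ associatedPrimes B N)
    (honly : ∀ P : Ideal B, P.IsPrime → q ≤ P → ϖ ∈ P → P = maximalIdeal B) :
    maximalIdeal B ∈ associatedPrimes B (Red ϖ N) := by
  haveI : IsNoetherian B N := isNoetherian_of_isNoetherianRing_of_finite B N
  let N' : Submodule B N := Submodule.torsionBySet B N (q : Set B)
  have hsat : ∀ k : N, ϖ • k ∈ N' → k ∈ N' := by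
    intro k hk
    rw [Submodule.mem_torsionBySet_iff] at hk ⊢
    intro a
    apply hreg
    rw [smul_comm]
    exact hk a
  obtain ⟨hqprime, n, hn⟩ := isAssociatedPrime_iff.mp hq
  have hn0 : n ≠ 0 := by
    rintro rfl
    apply hqprime.ne_top
    rw [hn]
    ext a
    simp [Submodule.mem_colon_singleton]
  have hnN' : n ∈ N' := by
    rw [Submodule.mem_torsionBySet_iff]
    intro a
    have h1 : (a : B) ∈ q := a.2
    have h2 : (a : B) ∈ (⊥ : Submodule B N).colon {n} := hn ▸ h1
    simpa [Submodule.mem_colon_singleton] using h2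
  haveI : Nontrivial (Red ϖ N') := by
    rw [Submodule.Quotient.nontrivial_iff]
    intro htop
    have h1 : (⊤ : Submodule B N') = ⊥ := by
      refine Submodule.eq_bot_of_le_smul_of_le_jacobson_bot (Ideal.span {ϖ}) ⊤
        (Module.Finite.fg_top) (le_of_eq htop.symm) ?_
      rw [IsLocalRing.jacobson_eq_maximalIdeal ⊥ bot_ne_top, Ideal.span_singleton_le_iff_mem]
      exact hϖm
    have h2 : (⟨n, hnN'⟩ : N') ∈ (⊥ : Submodule B N') := h1 ▸ Submodule.mem_top
    rw [Submodule.mem_bot] at h2
    exact hn0 (congrArg Subtype.val h2)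
  obtain ⟨P, hP⟩ := associatedPrimes.nonempty B (Red ϖ N')
  have hPeq : P = maximalIdeal B := by
    obtain ⟨hPprime, x, hx⟩ := isAssociatedPrime_iff.mp hP
    refine honly P hPprime ?_ ?_
    · intro a ha
      rw [hx]
      obtain ⟨k, rfl⟩ := Submodule.mkQ_surjective _ x
      rw [Submodule.mem_colon_singleton, Submodule.mem_bot]
      rw [← map_smul]
      have : a • k = 0 := by
        apply Subtype.ext
        have := (Submodule.mem_torsionBySet_iff _ _).mp k.2 ⟨a, ha⟩
        exact this
      rw [this, map_zero]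
    · rw [hx]
      obtain ⟨k, rfl⟩ := Submodule.mkQ_surjective _ x
      rw [Submodule.mem_colon_singleton, Submodule.mem_bot]
      rw [← map_smul]
      exact (Submodule.Quotient.mk_eq_zero _).mpr ((mem_smulTop_iff ϖ _).mpr ⟨k, rfl⟩)
  rw [← hPeq]
  exact associatedPrimes.subset_of_injective (redIncl_injective ϖ N' hsat) hP

end Local

section AtPrime

variable {R : Type u} [CommRing R] [IsNoetherianRing R] (ϖ : R)
  (p : Ideal R) [p.IsPrime]
  (Sp : Type u) [CommRing Sp] [Algebra R Sp] [IsLocalization.AtPrime Sp p]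
  {N : Type u} [AddCommGroup N] [Module R N] [Module.Finite R N]
  {Pp : Type u} [AddCommGroup Pp] [Module R Pp] [Module Sp Pp] [IsScalarTower R Sp Pp]
  (gp : N →ₗ[R] Pp) [IsLocalizedModule p.primeCompl gp]

/-- a minimal prime of the support is an associated prime -/
theorem mem_ass_of_min (q : Ideal R) [hq : q.IsPrime]
    (hqs : ∃ n : N, (Submodule.span R {n}).annihilator ≤ q)
    (hmin : ∀ r : Ideal R, r.IsPrime →
      (∃ n : N, (Submodule.span R {n}).annihilator ≤ r) → r ≤ q → r = q) :
    q ∈ associatedPrimes R N := by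
  apply Module.associatedPrimes.minimalPrimes_annihilator_subset_associatedPrimes R N
  have hqsupp : (⟨q, hq⟩ : PrimeSpectrum R) ∈ Module.support R N :=
    Module.mem_support_iff_exists_annihilator.mpr hqs
  refine ⟨⟨hq, Module.mem_support_iff_of_finite.mp hqsupp⟩, ?_⟩
  rintro r ⟨hr, hr2⟩ hrq
  have hrsupp : (⟨r, hr⟩ : PrimeSpectrum R) ∈ Module.support R N :=
    Module.mem_support_iff_of_finite.mpr hr2
  exact (hmin r hr (Module.mem_support_iff_exists_annihilator.mp hrsupp) hrq).ge

include gp in
/-- **the maximal ideal of `R_p` is associated to `N_p / ϖ N_p`** when `p` is the only prime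
`≤ p` containing `q + (ϖ)` for a minimal prime `q` of the support of `N`, `ϖ` being `N`-regular -/
theorem maximalIdeal_mem_ass_red_atPrime [IsLocalRing Sp] (hϖp : ϖ ∈ p)
    (hreg : ∀ n : N, ϖ • n = 0 → n = 0)
    (q : Ideal R) [hq : q.IsPrime] (hqp : q ≤ p)
    (hqs : ∃ n : N, (Submodule.span R {n}).annihilator ≤ q)
    (hmin : ∀ r : Ideal R, r.IsPrime →
      (∃ n : N, (Submodule.span R {n}).annihilator ≤ r) → r ≤ q → r = q)
    (honly : ∀ r : Ideal R, r.IsPrime → q ≤ r → ϖ ∈ r → r ≤ p → r = p) :
    maximalIdeal Sp ∈ associatedPrimes Sp (Red (algebraMap R Sp ϖ) Pp) := by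
  haveI : IsNoetherianRing Sp := IsLocalization.isNoetherianRing p.primeCompl Sp inferInstance
  haveI : Module.Finite Sp Pp := Module.Finite.of_isLocalizedModule p.primeCompl gp
  have hdisj : Disjoint (p.primeCompl : Set R) q :=
    Set.disjoint_left.mpr fun x hx hxq => hx (hqp hxq)
  have hcomap : (q.map (algebraMap R Sp)).comap (algebraMap R Sp) = q :=
    IsLocalization.under_map_of_isPrime_disjoint p.primeCompl Sp inferInstance hdisj
  haveI hQprime : (q.map (algebraMap R Sp)).IsPrime :=
    IsLocalization.isPrime_of_isPrime_disjoint p.primeCompl Sp q inferInstance hdisj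
  refine maximalIdeal_mem_ass_red (algebraMap R Sp ϖ)
    ((IsLocalization.AtPrime.to_map_mem_maximal_iff Sp p ϖ).mpr hϖp) ?_
    (q.map (algebraMap R Sp)) ?_ ?_
  · intro k hk
    obtain ⟨⟨n, s⟩, e⟩ := IsLocalizedModule.surj p.primeCompl gp k
    have e' : (s : R) • k = gp n := e
    have hsinj := ((Module.End.isUnit_iff _).mp (IsLocalizedModule.map_units gp s)).1
    have h1 : gp (ϖ • n) = 0 := by
      rw [gp.map_smul, ← e', smul_comm, ← algebraMap_smul Sp ϖ k, hk, smul_zero]
    obtain ⟨t, ht⟩ := (IsLocalizedModule.eq_zero_iff p.primeCompl gp).mp h1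
    have ht' : ϖ • ((t : R) • n) = 0 := by rw [smul_comm]; exact ht
    have h2 : (t : R) • n = 0 := hreg _ ht'
    have h3 : gp n = 0 := by
      have htinj := ((Module.End.isUnit_iff _).mp (IsLocalizedModule.map_units gp t)).1
      apply htinj
      change (t : R) • gp n = (t : R) • (0 : Pp)
      rw [← gp.map_smul, h2, map_zero, smul_zero]
    apply hsinj
    change (s : R) • k = (s : R) • (0 : Pp)
    rw [e', h3, smul_zero]
  · have h := Module.associatedPrimes.preimage_comap_associatedPrimes_eq_associatedPrimes_of_isLocalizedModule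
      p.primeCompl Sp gp
    rw [← h, Set.mem_preimage]
    change (q.map (algebraMap R Sp)).comap (algebraMap R Sp) ∈ associatedPrimes R N
    rw [hcomap]
    exact mem_ass_of_min q hqs hmin
  · intro P hP hqP hϖP
    have h1 : P.comap (algebraMap R Sp) = p := by
      refine honly _ (Ideal.comap_isPrime _ _) ?_ hϖP ?_
      · rw [← hcomap]; exact Ideal.comap_mono hqP
      · rw [← IsLocalization.AtPrime.under_maximalIdeal Sp p]
        exact Ideal.comap_mono (IsLocalRing.le_maximalIdeal hP.ne_top)
    have h2 := IsLocalization.map_under p.primeCompl Sp P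
    rw [← h2, ← IsLocalization.AtPrime.map_eq_maximalIdeal p Sp]
    exact congrArg (Ideal.map (algebraMap R Sp)) h1

end AtPrime

end Groth.Agent.Lib.Helper5.MaxLen
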