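import Mathlib
import Groth.Agent.Lib.Lead.SD1
import Groth.Agent.Lib.Helper5.FlatExt.Chart

/-!
# Dictionary between points of an affine open and primes of its ring of sections (helper5)
-/

set_option autoImplicit false
set_option linter.unusedSectionVars false
set_option linter.unusedVariables false
set_option backward.isDefEq.respectTransparency.types false
universe u
open CategoryTheory CategoryTheory.Limits AlgebraicGeometry TopologicalSpace IsLocalRing

namespace Groth.Agent.Lib.Helper5.MaxLen

attribute [local instance] Groth.Agent.Lead.SD.stalkModule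

variable {X : Scheme.{u}} {U : X.Opens} (hU : IsAffineOpen U)

include hU in
/-- (D1) specialization in an affine open is inclusion of primes -/
theorem specializes_iff_primeIdealOf_le (w w' : U) :
    w.1 ⤳ w'.1 ↔ (hU.primeIdealOf w).asIdeal ≤ (hU.primeIdealOf w').asIdeal := by
  have h1 := hU.fromSpec_primeIdealOf w
  have h2 := hU.fromSpec_primeIdealOf w'
  rw [← h1, ← h2, hU.fromSpec.isOpenEmbedding.toIsInducing.specializes_iff]
  exact (PrimeSpectrum.le_iff_specializes (hU.primeIdealOf w) (hU.primeIdealOf w')).symm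

include hU in
/-- (D2) every prime is the prime of a point -/
theorem exists_primeIdealOf_eq (r : Ideal Γ(X, U)) [hr : r.IsPrime] :
    ∃ w : U, (hU.primeIdealOf w).asIdeal = r :=
  ⟨⟨hU.fromSpec ⟨r, hr⟩, Groth.Agent.Lead.SD.fromSpec_mem hU _⟩, by
    rw [Groth.Agent.Lead.SD.primeIdealOf_fromSpec hU ⟨r, hr⟩]⟩

include hU in
theorem primeIdealOf_injective (w w' : U)
    (h : (hU.primeIdealOf w).asIdeal = (hU.primeIdealOf w').asIdeal) : w = w' := by
  apply Subtype.ext
  rw [← hU.fromSpec_primeIdealOf w, ← hU.fromSpec_primeIdealOf w']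
  congr 1
  exact PrimeSpectrum.ext h

include hU in
/-- (D3) the stalk is nonzero iff the prime is in the support of the module of sections -/
theorem nontrivial_stalk_iff (F : X.Modules) [F.IsQuasicoherent] (w : U) :
    Nontrivial (F.presheaf.stalk w.1) ↔
      ∃ n : Γ(F, U), (Submodule.span Γ(X, U) {n}).annihilator ≤ (hU.primeIdealOf w).asIdeal := by
  haveI := hU.isLocalization_stalk w
  haveI := Groth.Agent.Lead.SD.isLocalizedModule_germ F hU w
  constructor
  · intro hnt
    obtain ⟨s, hs⟩ := exists_ne (0 : F.presheaf.stalk w.1)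
    obtain ⟨⟨n, t⟩, e⟩ := IsLocalizedModule.surj (hU.primeIdealOf w).asIdeal.primeCompl
      (Groth.Agent.Lead.SD.germₗ F w) s
    have e' : (t : Γ(X, U)) • s = Groth.Agent.Lead.SD.germₗ F w n := e
    refine ⟨n, fun a ha => ?_⟩
    by_contra hap
    rw [Submodule.mem_annihilator_span_singleton] at ha
    have h1 : a • Groth.Agent.Lead.SD.germₗ F w n = 0 := by
      rw [← LinearMap.map_smul, ha, map_zero]
    have hainj := ((Module.End.isUnit_iff _).mp (IsLocalizedModule.map_units
      (Groth.Agent.Lead.SD.germₗ F w) (⟨a, hap⟩ : (hU.primeIdealOf w).asIdeal.primeCompl))).1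
    have htinj := ((Module.End.isUnit_iff _).mp (IsLocalizedModule.map_units
      (Groth.Agent.Lead.SD.germₗ F w) t)).1
    have h2 : Groth.Agent.Lead.SD.germₗ F w n = 0 := by
      apply hainj
      change a • Groth.Agent.Lead.SD.germₗ F w n = a • (0 : F.presheaf.stalk w.1)
      rw [h1, smul_zero]
    apply hs
    apply htinj
    change (t : Γ(X, U)) • s = (t : Γ(X, U)) • (0 : F.presheaf.stalk w.1)
    rw [e', h2, smul_zero]
  · rintro ⟨n, hn⟩
    refine ⟨⟨Groth.Agent.Lead.SD.germₗ F w n, 0, fun h0 => ?_⟩⟩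
    obtain ⟨t, ht⟩ := (IsLocalizedModule.eq_zero_iff (hU.primeIdealOf w).asIdeal.primeCompl
      (Groth.Agent.Lead.SD.germₗ F w)).mp h0
    exact t.2 (hn ((Submodule.mem_annihilator_span_singleton _ _).mpr ht))

section OverSpec

variable {A : Type u} [CommRing A] (f : X ⟶ Spec (CommRingCat.of A))

/-- the function on `U` induced by an element of `A` -/
noncomputable def secOf (U : X.Opens) (a : A) : Γ(X, U) :=
  (f.appLE ⊤ U le_top).hom ((Scheme.ΓSpecIso (CommRingCat.of A)).inv.hom a)

include hU in
/-- (D4) -/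
theorem mem_asIdeal_iff (a : A) (w : U) :
    a ∈ (f w.1).asIdeal ↔ secOf f U a ∈ (hU.primeIdealOf w).asIdeal := by
  rw [← not_iff_not]
  have h1 := Groth.Agent.Lead.SD.mem_basicOpen_iff hU w (secOf f U a)
  change _ ↔ secOf f U a ∈ (hU.primeIdealOf w).asIdeal.primeCompl
  rw [← h1]
  unfold secOf
  rw [Scheme.basicOpen_appLE]
  have h2 : (Spec (CommRingCat.of A)).basicOpen
      ((Scheme.ΓSpecIso (CommRingCat.of A)).inv.hom a) = PrimeSpectrum.basicOpen a :=
    basicOpen_eq_of_affine (R := CommRingCat.of A) a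
  rw [h2]
  constructor
  · intro h
    exact ⟨w.2, h⟩
  · rintro ⟨-, h⟩
    exact h

/-- the ring map `A ⟶ Γ(X, U)` -/
noncomputable def secHom (U : X.Opens) : A →+* Γ(X, U) :=
  (f.appLE ⊤ U le_top).hom.comp (Scheme.ΓSpecIso (CommRingCat.of A)).inv.hom

theorem secHom_apply (U : X.Opens) (a : A) : secHom f U a = secOf f U a := rfl

/-- the ideal generated by the maximal ideal of the local ring of the base -/
theorem map_maximalIdeal_eq (w : U) :
    (maximalIdeal ((Spec (CommRingCat.of A)).presheaf.stalk (f w.1))).map (f.stalkMap w.1).hom =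
      ((f w.1).asIdeal).map ((X.presheaf.germ U w.1 w.2).hom.comp (secHom f U)) := by
  letI alg0 : Algebra A ((Spec (CommRingCat.of A)).presheaf.stalk (f w.1)) :=
    StructureSheaf.stalkAlgebra (R := A) (f w.1)
  haveI loc0 : IsLocalization.AtPrime ((Spec (CommRingCat.of A)).presheaf.stalk (f w.1))
      (f w.1).asIdeal := StructureSheaf.IsLocalization.to_stalk A (f w.1)
  have h1 := IsLocalization.AtPrime.map_eq_maximalIdeal (f w.1).asIdeal
    ((Spec (CommRingCat.of A)).presheaf.stalk (f w.1))
  rw [← h1, Ideal.map_map]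
  congr 1
  ext a
  have h2 := Groth.Agent.Lib.Helper5.FlatExt.stalkMap_germ_appLE f
    (V := ⊤) (W := U) le_top w.1 w.2 ((Scheme.ΓSpecIso (CommRingCat.of A)).inv.hom a)
  exact h2

theorem map_maximalIdeal_eq_span (w : U) (ϖ : A) (h : (f w.1).asIdeal = Ideal.span {ϖ}) :
    (maximalIdeal ((Spec (CommRingCat.of A)).presheaf.stalk (f w.1))).map (f.stalkMap w.1).hom =
      Ideal.span {X.presheaf.germ U w.1 w.2 (secOf f U ϖ)} := by
  rw [map_maximalIdeal_eq, h, Ideal.map_span, Set.image_singleton]
  rfl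

theorem map_maximalIdeal_eq_bot (w : U) (h : (f w.1).asIdeal = ⊥) :
    (maximalIdeal ((Spec (CommRingCat.of A)).presheaf.stalk (f w.1))).map (f.stalkMap w.1).hom =
      ⊥ := by
  rw [map_maximalIdeal_eq, h, Ideal.map_bot]

end OverSpec

end Groth.Agent.Lib.Helper5.MaxLen
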