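import Mathlib
import Groth.Agent.Lib.Helper5.MaxLen.ChartD

/-!
# Maximal points of closed subsets, and a fibrewise comparison of finite sums (helper5)
-/

set_option autoImplicit false
set_option linter.unusedSectionVars false
set_option linter.unusedVariables false
universe u
open CategoryTheory CategoryTheory.Limits AlgebraicGeometry TopologicalSpace

namespace Groth.Agent.Lib.Helper5.MaxLen

/-- in a Noetherian quasi-sober space, a closed subset has finitely many maximal points -/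
theorem finite_maximal_points {α : Type*} [TopologicalSpace α] [NoetherianSpace α] [QuasiSober α]
    (Z : Set α) (hZ : IsClosed Z) : {x | x ∈ Z ∧ ∀ w ∈ Z, w ⤳ x → w = x}.Finite := by
  obtain ⟨S, hSf, hSc, hSi, hSU⟩ := NoetherianSpace.exists_finite_set_isClosed_irreducible hZ
  have hgen : ∀ t : S, ∃ g : α, IsGenericPoint g (t : Set α) := fun t =>
    QuasiSober.sober (hSi t.1 t.2) (hSc t.1 t.2)
  choose g hg using hgen
  haveI : Finite S := hSf
  refine (Set.finite_range g).subset ?_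
  rintro x ⟨hxZ, hmax⟩
  rw [hSU] at hxZ
  obtain ⟨t, htS, hxt⟩ := hxZ
  refine ⟨⟨t, htS⟩, ?_⟩
  have h1 : g ⟨t, htS⟩ ⤳ x := by
    rw [specializes_iff_mem_closure, (hg ⟨t, htS⟩).def]
    exact hxt
  have h2 : g ⟨t, htS⟩ ∈ Z := by
    rw [hSU]
    exact ⟨t, htS, (hg ⟨t, htS⟩).mem⟩
  exact hmax _ h2 h1

/-- **maximal points generizing a given point of a closed subset of a scheme** -/
theorem exists_maximal_generization {X : Scheme.{u}} (Z : Set X) (hZ : IsClosed Z) (z₀ : X)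
    (hz₀ : z₀ ∈ Z) : ∃ x ∈ Z, x ⤳ z₀ ∧ ∀ w ∈ Z, w ⤳ x → w = x := by
  obtain ⟨_, ⟨U, hU, rfl⟩, hzU, -⟩ := X.isBasis_affineOpens.exists_subset_of_mem_open
    (Set.mem_univ z₀) isOpen_univ
  have hU' : IsAffineOpen U := hU
  have hcl : IsClosed (hU'.fromSpec ⁻¹' Z) := hZ.preimage hU'.fromSpec.continuous
  obtain ⟨I, hI⟩ := (PrimeSpectrum.isClosed_iff_zeroLocus_ideal _).mp hcl
  let P₀ := hU'.primeIdealOf ⟨z₀, hzU⟩
  have hP₀ : P₀ ∈ hU'.fromSpec ⁻¹' Z := by
    change hU'.fromSpec P₀ ∈ Z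
    rw [hU'.fromSpec_primeIdealOf ⟨z₀, hzU⟩]
    exact hz₀
  have hIP₀ : I ≤ P₀.asIdeal := by
    have : P₀ ∈ PrimeSpectrum.zeroLocus (I : Set Γ(X, U)) := hI ▸ hP₀
    exact (PrimeSpectrum.mem_zeroLocus _ _).mp this
  obtain ⟨q, hq, hqP₀⟩ := Ideal.exists_minimalPrimes_le hIP₀
  haveI hqprime : q.IsPrime := hq.1.1
  obtain ⟨x, hx⟩ := exists_primeIdealOf_eq hU' q
  have hxZ : x.1 ∈ Z := by
    have h1 : hU'.primeIdealOf x ∈ PrimeSpectrum.zeroLocus (I : Set Γ(X, U)) := by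
      rw [PrimeSpectrum.mem_zeroLocus, hx]
      exact hq.1.2
    rw [← hI] at h1
    have h2 : hU'.fromSpec (hU'.primeIdealOf x) ∈ Z := h1
    rwa [hU'.fromSpec_primeIdealOf x] at h2
  refine ⟨x.1, hxZ, ?_, ?_⟩
  · have := (specializes_iff_primeIdealOf_le hU' x ⟨z₀, hzU⟩).mpr (by rw [hx]; exact hqP₀)
    exact this
  · intro w hwZ hwx
    have hwU : w ∈ U := hwx.mem_open U.isOpen x.2
    have h1 := (specializes_iff_primeIdealOf_le hU' ⟨w, hwU⟩ x).mp hwx
    rw [hx] at h1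
    have h2 : I ≤ (hU'.primeIdealOf ⟨w, hwU⟩).asIdeal := by
      have h3 : hU'.primeIdealOf ⟨w, hwU⟩ ∈ hU'.fromSpec ⁻¹' Z := by
        change hU'.fromSpec _ ∈ Z
        rw [hU'.fromSpec_primeIdealOf ⟨w, hwU⟩]
        exact hwZ
      rw [hI] at h3
      exact (PrimeSpectrum.mem_zeroLocus _ _).mp h3
    have h4 : q ≤ (hU'.primeIdealOf ⟨w, hwU⟩).asIdeal :=
      hq.2 ⟨(hU'.primeIdealOf ⟨w, hwU⟩).isPrime, h2⟩ h1
    have h5 : (hU'.primeIdealOf ⟨w, hwU⟩).asIdeal = (hU'.primeIdealOf x).asIdeal := by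
      rw [hx]; exact le_antisymm h1 h4
    exact congrArg Subtype.val (primeIdealOf_injective hU' _ _ h5)

/-- comparison of finite sums along a map of index types -/
theorem finsum_le_finsum_of_fiberwise {I' I : Type*} [Finite I] (a : I' → ℕ∞) (b : I → ℕ∞)
    (φ : I' → I)
    (h : ∀ (J : Finset I') (i : I), (∀ j ∈ J, φ j = i) → ∑ j ∈ J, a j ≤ b i) :
    ∑ᶠ j, a j ≤ ∑ᶠ i, b i := by
  classical
  by_cases hfin : (Function.support a).Finite
  · haveI := Fintype.ofFinite I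
    rw [finsum_eq_sum a hfin, finsum_eq_sum_of_fintype, ← Finset.sum_fiberwise hfin.toFinset φ a]
    refine Finset.sum_le_sum fun i _ => ?_
    exact h _ i (fun j hj => (Finset.mem_filter.mp hj).2)
  · rw [finsum_of_infinite_support hfin]
    exact zero_le

end Groth.Agent.Lib.Helper5.MaxLen
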