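import Mathlib
import Groth.Prelude.Def_Coh
import Groth.Prelude.Def_FlatMod2
import Groth.Agent.Lib.Helper5.MaxLen.Topo
import Groth.Agent.Lib.Helper5.MaxLen.AssRed
import Groth.Agent.Lib.Helper5.FibAss.Len
import Groth.Agent.Lib.Helper5.FlatExt.Uniq
import Groth.Agent.Lib.Helper1.FinPush

/-!
# Lengths at maximal points of the support on the generic and the closed fibre over a discrete
valuation ring (helper5): the pointwise inequalities
-/

set_option autoImplicit false
set_option linter.unusedSectionVars false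
set_option linter.unusedVariables false
set_option backward.isDefEq.respectTransparency.types false
universe u
open CategoryTheory CategoryTheory.Limits AlgebraicGeometry TopologicalSpace IsLocalRing

namespace Groth.Agent.Lib.Helper5.MaxLen

open Groth.Agent.Lib.Helper5.FibAss

attribute [local instance] Groth.Agent.Lead.SD.stalkModule

/-- `x` is a maximal point of the support of `F` on the fibre of `f` over `t` -/
def MaxIn {X Y : Scheme.{u}} (f : X ⟶ Y) (F : X.Modules) (t : Y) (x : X) : Prop :=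
  f x = t ∧ Nontrivial (F.presheaf.stalk x) ∧
    ∀ w : X, f w = t → Nontrivial (F.presheaf.stalk w) → w ⤳ x → w = x

section DVR

variable {A : Type u} [CommRing A] [IsDomain A]

theorem asIdeal_genericPoint :
    (genericPoint (Spec (CommRingCat.of A))).asIdeal = ⊥ := by
  rw [genericPoint_eq_bot_of_affine (CommRingCat.of A)]
  rfl

theorem eq_genericPoint_of_specializes (t : Spec (CommRingCat.of A))
    (h : t ⤳ genericPoint (Spec (CommRingCat.of A))) : t = genericPoint _ :=
  (h.antisymm (genericPoint_specializes t)).eq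

variable [IsDiscreteValuationRing A]

theorem eq_closedPoint_of_mem (ϖ : A) (hϖ : Irreducible ϖ) (t : Spec (CommRingCat.of A))
    (h : ϖ ∈ t.asIdeal) : t = closedPoint A := by
  apply PrimeSpectrum.ext
  change t.asIdeal = maximalIdeal A
  refine le_antisymm (IsLocalRing.le_maximalIdeal t.isPrime.ne_top) ?_
  rw [hϖ.maximalIdeal_eq, Ideal.span_singleton_le_iff_mem]
  exact h

end DVR

section Len

variable {A : Type u} [CommRing A] {X : Scheme.{u}} (f : X ⟶ Spec (CommRingCat.of A))

/-- over a point of the base with zero prime, the fibre length is the length of the stalk -/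
theorem fibLen_eq_of_bot (F : X.Modules) (x : X) (h : (f x).asIdeal = ⊥) :
    fibLen f F x = Module.length (X.presheaf.stalk x) (F.presheaf.stalk x) := by
  unfold fibLen
  have h1 := map_maximalIdeal_eq_bot f (U := ⊤) ⟨x, trivial⟩ h
  rw [h1]
  exact (Submodule.quotEquivOfEqBot _ (Submodule.bot_smul _)).length_eq

/-- over a point of the base with principal prime, the fibre length is the length of the
reduction of the stalk -/
theorem fibLen_eq_of_span (F : X.Modules) {U : X.Opens} (w : U) (ϖ : A)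
    (h : (f w.1).asIdeal = Ideal.span {ϖ}) :
    fibLen f F w.1 = Module.length (X.presheaf.stalk w.1)
      (Red (X.presheaf.germ U w.1 w.2 (secOf f U ϖ)) (F.presheaf.stalk w.1)) := by
  unfold fibLen
  rw [map_maximalIdeal_eq_span f w ϖ h]

end Len

section Main

variable {A : Type u} [CommRing A] [IsDomain A] [IsDiscreteValuationRing A]
  {X : Scheme.{u}} (f : X ⟶ Spec (CommRingCat.of A))

/-- **the pointwise inequality**: the sum of the lengths of the stalks of `F` at finitely many
maximal points of the support on the generic fibre specializing to a point `x` of the closed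
fibre is at most the length of the fibre module at `x` -/
theorem sum_fibLen_le [IsLocallyNoetherian X] (F : X.Modules) (hF : Coh.IsCoh F) (x : X)
    (hx : f x = closedPoint A) (J : Finset X)
    (hJ : ∀ x' ∈ J, MaxIn f F (genericPoint (Spec (CommRingCat.of A))) x' ∧ x' ⤳ x) :
    ∑ x' ∈ J, fibLen f F x' ≤ fibLen f F x := by
  haveI : F.IsQuasicoherent := hF.1
  obtain ⟨_, ⟨U, hU, rfl⟩, hxU, -⟩ := X.isBasis_affineOpens.exists_subset_of_mem_open
    (Set.mem_univ x) isOpen_univ
  have hU' : IsAffineOpen U := hU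
  have hJU : ∀ x' ∈ J, x' ∈ U := fun x' h => (hJ x' h).2.mem_open U.isOpen hxU
  haveI : IsNoetherianRing Γ(X, U) := IsLocallyNoetherian.component_noetherian ⟨U, hU⟩
  haveI : Module.Finite Γ(X, U) Γ(F, U) := Groth.Agent.Helper1.FinPush.finite_sections F hF hU'
  obtain ⟨ϖ, hϖ⟩ := IsDiscreteValuationRing.exists_irreducible A
  have hmax : maximalIdeal A = Ideal.span {ϖ} := hϖ.maximalIdeal_eq
  obtain ⟨pt, hpt⟩ : ∃ pt : {x' // x' ∈ J} → U, ∀ i, (pt i).1 = i.1 :=
    ⟨fun i => ⟨i.1, hJU i.1 i.2⟩, fun i => rfl⟩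
  obtain ⟨x₀, rfl⟩ : ∃ x₀ : U, x₀.1 = x := ⟨⟨x, hxU⟩, rfl⟩
  have hη : ∀ i : {x' // x' ∈ J}, (f (pt i).1).asIdeal = ⊥ := fun i => by
    have := (hJ i.1 i.2).1.1
    rw [hpt i, this]
    exact asIdeal_genericPoint
  have hy : (f x₀.1).asIdeal = Ideal.span {ϖ} := by
    rw [hx, ← hmax]
    rfl
  haveI := hU'.isLocalization_stalk x₀
  haveI := Groth.Agent.Lead.SD.isLocalizedModule_germ F hU' x₀
  haveI : ∀ i, IsLocalization.AtPrime (X.presheaf.stalk (pt i).1)
      (hU'.primeIdealOf (pt i)).asIdeal := fun i => hU'.isLocalization_stalk (pt i)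
  haveI : ∀ i, IsLocalizedModule (hU'.primeIdealOf (pt i)).asIdeal.primeCompl
      (Groth.Agent.Lead.SD.germₗ F (pt i)) := fun i =>
    Groth.Agent.Lead.SD.isLocalizedModule_germ F hU' (pt i)
  have key := sum_length_le_atPrime (secOf f U ϖ) (hU'.primeIdealOf x₀).asIdeal
    (X.presheaf.stalk x₀.1) (Groth.Agent.Lead.SD.germₗ F x₀)
    ((mem_asIdeal_iff hU' f ϖ x₀).mp (by rw [hy]; exact Ideal.subset_span rfl))
    (fun i : {x' // x' ∈ J} => (hU'.primeIdealOf (pt i)).asIdeal)
    (fun i => X.presheaf.stalk (pt i).1) (fun i => F.presheaf.stalk (pt i).1)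
    (fun i => Groth.Agent.Lead.SD.germₗ F (pt i)) J.attach ?_ ?_ ?_ ?_
  · rw [fibLen_eq_of_span f F x₀ ϖ hy]
    refine le_trans (le_of_eq ?_) key
    rw [← Finset.sum_attach]
    refine Finset.sum_congr rfl fun i _ => ?_
    have := fibLen_eq_of_bot f F (pt i).1 (hη i)
    rw [hpt i] at this
    rw [this, ← hpt i]
  · intro i _ j _ hij
    have := primeIdealOf_injective hU' _ _ hij
    apply Subtype.ext
    rw [← hpt i, ← hpt j, this]
  · intro i
    refine (specializes_iff_primeIdealOf_le hU' (pt i) x₀).mp ?_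
    rw [hpt i]
    exact (hJ i.1 i.2).2
  · intro i hmem
    have h1 := (mem_asIdeal_iff hU' f ϖ (pt i)).mpr hmem
    rw [hη i] at h1
    exact hϖ.ne_zero ((Submodule.mem_bot _).mp h1)
  · intro i r hr ⟨n, hn⟩ hrq
    obtain ⟨w, hw⟩ := exists_primeIdealOf_eq hU' r
    have hnt : Nontrivial (F.presheaf.stalk w.1) :=
      (nontrivial_stalk_iff hU' F w).mpr ⟨n, by rw [hw]; exact hn⟩
    have hspec : w.1 ⤳ (pt i).1 :=
      (specializes_iff_primeIdealOf_le hU' w (pt i)).mpr (by rw [hw]; exact hrq)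
    have hfw : f w.1 = genericPoint (Spec (CommRingCat.of A)) := by
      apply eq_genericPoint_of_specializes
      have := hspec.map f.continuous
      rw [← (hJ i.1 i.2).1.1, ← hpt i]
      exact this
    have h2 : w.1 = i.1 := (hJ i.1 i.2).1.2.2 w.1 hfw hnt (by rw [← hpt i]; exact hspec)
    have h3 : w = pt i := Subtype.ext (by rw [h2, hpt i])
    rw [← hw, h3]

/-- **a maximal point of the specialization on the closed fibre of a maximal point of the support
on the generic fibre is an associated point of the closed fibre module** -/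
theorem fibAssAt_of_maximal [IsLocallyNoetherian X] (F : X.Modules) (hF : Coh.IsCoh F)
    (hflat : FlatMod.IsFlatOver f F) (x x' : X) (hx : f x = closedPoint A)
    (hx' : MaxIn f F (genericPoint (Spec (CommRingCat.of A))) x') (hspec : x' ⤳ x)
    (hmaxx : ∀ w : X, x' ⤳ w → f w = closedPoint A → w ⤳ x → w = x) :
    FibAssAt f F x := by
  haveI : F.IsQuasicoherent := hF.1
  obtain ⟨_, ⟨U, hU, rfl⟩, hxU, -⟩ := X.isBasis_affineOpens.exists_subset_of_mem_open
    (Set.mem_univ x) isOpen_univ
  have hU' : IsAffineOpen U := hU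
  have hx'U : x' ∈ U := hspec.mem_open U.isOpen hxU
  haveI : IsNoetherianRing Γ(X, U) := IsLocallyNoetherian.component_noetherian ⟨U, hU⟩
  haveI : Module.Finite Γ(X, U) Γ(F, U) := Groth.Agent.Helper1.FinPush.finite_sections F hF hU'
  obtain ⟨ϖ, hϖ⟩ := IsDiscreteValuationRing.exists_irreducible A
  have hmax : maximalIdeal A = Ideal.span {ϖ} := hϖ.maximalIdeal_eq
  obtain ⟨x₀, rfl⟩ : ∃ x₀ : U, x₀.1 = x := ⟨⟨x, hxU⟩, rfl⟩
  obtain ⟨x₁, rfl⟩ : ∃ x₁ : U, x₁.1 = x' := ⟨⟨x', hx'U⟩, rfl⟩
  have hη : (f x₁.1).asIdeal = ⊥ := by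
    rw [hx'.1]
    exact asIdeal_genericPoint
  have hy : (f x₀.1).asIdeal = Ideal.span {ϖ} := by
    rw [hx, ← hmax]
    rfl
  haveI := hU'.isLocalization_stalk x₀
  haveI := Groth.Agent.Lead.SD.isLocalizedModule_germ F hU' x₀
  have hmin : ∀ r : Ideal Γ(X, U), r.IsPrime →
      (∃ n : Γ(F, U), (Submodule.span Γ(X, U) {n}).annihilator ≤ r) →
      r ≤ (hU'.primeIdealOf x₁).asIdeal → r = (hU'.primeIdealOf x₁).asIdeal := by
    intro r hr ⟨n, hn⟩ hrq
    obtain ⟨w, hw⟩ := exists_primeIdealOf_eq hU' r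
    have hnt : Nontrivial (F.presheaf.stalk w.1) :=
      (nontrivial_stalk_iff hU' F w).mpr ⟨n, by rw [hw]; exact hn⟩
    have hspec' : w.1 ⤳ x₁.1 :=
      (specializes_iff_primeIdealOf_le hU' w x₁).mpr (by rw [hw]; exact hrq)
    have hfw : f w.1 = genericPoint (Spec (CommRingCat.of A)) := by
      apply eq_genericPoint_of_specializes
      have := hspec'.map f.continuous
      rw [← hx'.1]
      exact this
    have h2 : w.1 = x₁.1 := hx'.2.2 w.1 hfw hnt hspec'
    have h3 : w = x₁ := Subtype.ext h2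
    rw [← hw, h3]
  have key := maximalIdeal_mem_ass_red_atPrime (secOf f U ϖ) (hU'.primeIdealOf x₀).asIdeal
    (X.presheaf.stalk x₀.1) (Groth.Agent.Lead.SD.germₗ F x₀)
    ((mem_asIdeal_iff hU' f ϖ x₀).mp (by rw [hy]; exact Ideal.subset_span rfl))
    ?_ (hU'.primeIdealOf x₁).asIdeal
    ((specializes_iff_primeIdealOf_le hU' x₁ x₀).mp hspec)
    ((nontrivial_stalk_iff hU' F x₁).mp hx'.2.1) hmin ?_
  · unfold FibAssAt
    rw [map_maximalIdeal_eq_span f x₀ ϖ hy]
    exact key
  · intro n hn
    refine Groth.Agent.Lib.Helper5.FlatExt.sections_torsionFree f F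
      (fun x a m ha h => Groth.Agent.Lib.Helper5.FlatExt.torsionFree_of_isFlatOver f F hflat
        x a m ha h) (V := ⊤) (W := U) le_top
      ((Scheme.ΓSpecIso (CommRingCat.of A)).inv.hom ϖ) ?_ n hn
    intro h0
    apply hϖ.ne_zero
    have hinj : Function.Injective (Scheme.ΓSpecIso (CommRingCat.of A)).inv.hom :=
      (ConcreteCategory.bijective_of_isIso (Scheme.ΓSpecIso (CommRingCat.of A)).inv).1
    exact hinj (h0.trans (map_zero _).symm)
  · intro r hr hqr hϖr hrp
    obtain ⟨w, hw⟩ := exists_primeIdealOf_eq hU' r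
    have h1 : x₁.1 ⤳ w.1 :=
      (specializes_iff_primeIdealOf_le hU' x₁ w).mpr (by rw [hw]; exact hqr)
    have h2 : w.1 ⤳ x₀.1 :=
      (specializes_iff_primeIdealOf_le hU' w x₀).mpr (by rw [hw]; exact hrp)
    have h3 : f w.1 = closedPoint A := by
      apply eq_closedPoint_of_mem ϖ hϖ
      exact (mem_asIdeal_iff hU' f ϖ w).mpr (by rw [hw]; exact hϖr)
    have h4 : w.1 = x₀.1 := hmaxx w.1 h1 h3 h2
    have h5 : w = x₀ := Subtype.ext h4
    rw [← hw, h5]

end Main

end Groth.Agent.Lib.Helper5.MaxLen
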