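import Mathlib
import Groth.Prelude.Def_Coh
import Groth.Prelude.Def_FlatMod2
import Groth.Prelude.Def_FDesc
import Groth.Agent.Lib.Helper5.MaxLen.Geo
import Groth.Agent.Lib.Helper5.FibAss.Gen
import Groth.Agent.Lib.Helper5.FibAss.Main
import Groth.Agent.Lib.Helper5.MaxSupp.Geom
import Groth.Agent.Lib.Helper1.FtSupp

/-!
# Lengths at maximal points of the support on the generic and the closed fibre over a discrete
valuation ring (helper5): fibre-level translation and the main theorem
-/

set_option autoImplicit false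
set_option linter.unusedSectionVars false
set_option linter.unusedVariables false
set_option backward.isDefEq.respectTransparency.types false
universe u
open CategoryTheory CategoryTheory.Limits AlgebraicGeometry TopologicalSpace IsLocalRing

namespace Groth.Agent.Lib.Helper5.MaxLen

open Groth.Agent.Lib.Helper5.FibAss Groth.Agent.Lib.Helper5.MaxSupp

section General

variable {X Y : Scheme.{u}} (f : X ⟶ Y)

theorem nontrivial_fibre_stalk_iff (F : X.Modules) (hF : Coh.IsCoh F) (t : Y) (v : f.fiber t) :
    Nontrivial (((Scheme.Modules.pullback (f.fiberι t)).obj F).presheaf.stalk v) ↔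
      Nontrivial (F.presheaf.stalk (f.fiberι t v)) := by
  have h := support_pullback (f.fiberι t) F hF
  have h1 : v ∈ CohB1.support ((Scheme.Modules.pullback (f.fiberι t)).obj F) ↔
      v ∈ (f.fiberι t) ⁻¹' CohB1.support F := by rw [h]
  rw [← not_subsingleton_iff_nontrivial, ← not_subsingleton_iff_nontrivial]
  exact h1

/-- maximal points of the support of the fibre module, in terms of `X` -/
theorem maxIn_fiberι_iff (F : X.Modules) (hF : Coh.IsCoh F) (t : Y) (v : f.fiber t) :
    (Nontrivial (((Scheme.Modules.pullback (f.fiberι t)).obj F).presheaf.stalk v) ∧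
      ∀ w : f.fiber t,
        Nontrivial (((Scheme.Modules.pullback (f.fiberι t)).obj F).presheaf.stalk w) →
        v ∈ closure {w} → w = v) ↔ MaxIn f F t (f.fiberι t v) := by
  have hemb := (f.fiberι t).isEmbedding
  have hrange := f.range_fiberι t
  constructor
  · rintro ⟨hnt, hmax⟩
    refine ⟨apply_fiberι f t v, (nontrivial_fibre_stalk_iff f F hF t v).mp hnt, ?_⟩
    intro w' hfw' hntw' hspec
    have hw' : w' ∈ Set.range (f.fiberι t) := by rw [hrange]; exact hfw'
    obtain ⟨w, rfl⟩ := hw'
    have h1 : w ⤳ v := hemb.toIsInducing.specializes_iff.mp hspec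
    rw [hmax w ((nontrivial_fibre_stalk_iff f F hF t w).mpr hntw')
      (specializes_iff_mem_closure.mp h1)]
  · rintro ⟨-, hnt, hmax⟩
    refine ⟨(nontrivial_fibre_stalk_iff f F hF t v).mpr hnt, ?_⟩
    intro w hntw hvw
    have h1 : w ⤳ v := specializes_iff_mem_closure.mpr hvw
    have h2 : f.fiberι t w ⤳ f.fiberι t v := h1.map (f.fiberι t).continuous
    exact hemb.injective (hmax _ (apply_fiberι f t w)
      ((nontrivial_fibre_stalk_iff f F hF t w).mp hntw) h2)

/-- an associated point of a coherent module without embedded points on a locally Noetherian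
scheme is a maximal point of the support -/
theorem maximal_of_isAssPoint {Z : Scheme.{u}} [IsLocallyNoetherian Z] (G : Z.Modules)
    (hG : Coh.IsCoh G) (hemb : AssSch.NoEmbedded G) (z : Z) (hz : Curv2.IsAssPoint G z) :
    Nontrivial (G.presheaf.stalk z) ∧
      ∀ w : Z, Nontrivial (G.presheaf.stalk w) → z ∈ closure {w} → w = z := by
  haveI : G.IsQuasicoherent := hG.1
  constructor
  · by_contra h
    rw [not_nontrivial_iff_subsingleton] at h
    exact not_isAssociatedPrime_of_subsingleton hz
  · intro w hnt hzw
    have hwz : w ⤳ z := specializes_iff_mem_closure.mpr hzw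
    haveI : Module.Finite (Z.presheaf.stalk w) (G.presheaf.stalk w) :=
      Groth.Agent.Helper7.FinType.stalk_finite_of_isCoh G hG w
    obtain ⟨q, hq⟩ := associatedPrimes.nonempty (Z.presheaf.stalk w) (G.presheaf.stalk w)
    haveI hqp : q.IsPrime := hq.isPrime
    have hw₀ := isAssPoint_fromSpecStalk G w ⟨q, hqp⟩ hq
    have hw₀w : Z.fromSpecStalk w ⟨q, hqp⟩ ⤳ w := by
      have : Z.fromSpecStalk w ⟨q, hqp⟩ ∈ Set.range (Z.fromSpecStalk w) := ⟨_, rfl⟩
      rw [Scheme.range_fromSpecStalk] at this
      exact this
    have h1 : z = Z.fromSpecStalk w ⟨q, hqp⟩ := hemb z hz _ hw₀ (hw₀w.trans hwz)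
    rw [← h1] at hw₀w
    exact (hwz.antisymm hw₀w).eq

end General

section Main

variable {A : Type u} [CommRing A] [IsDomain A] [IsDiscreteValuationRing A]
  {X : Scheme.{u}} (f : X ⟶ Spec (CommRingCat.of A))

/-- every maximal point of the support on the generic fibre specializes to a maximal point of the
support on the closed fibre -/
theorem exists_specialization [IsProper f] (F : X.Modules) (hF : Coh.IsCoh F)
    (hflat : FlatMod.IsFlatOver f F)
    (hemb : AssSch.NoEmbedded
      ((Scheme.Modules.pullback (f.fiberι (closedPoint A))).obj F))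
    (x' : X) (hx' : MaxIn f F (genericPoint (Spec (CommRingCat.of A))) x') :
    ∃ x : X, MaxIn f F (closedPoint A) x ∧ x' ⤳ x := by
  haveI : F.IsQuasicoherent := hF.1
  haveI : IsLocallyNoetherian X := LocallyOfFiniteType.isLocallyNoetherian f
  -- the specialization of `x'` on the closed fibre is nonempty
  let Z : Set X := closure {x'} ∩ f ⁻¹' {closedPoint A}
  have hZ : IsClosed Z := isClosed_closure.inter
    ((isClosed_singleton_closedPoint A).preimage f.continuous)
  obtain ⟨x₁, hx₁⟩ : ∃ x₁ : X, x₁ ∈ Z := by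
    have hcl : IsClosed (f '' closure {x'}) := f.isClosedMap _ isClosed_closure
    have hη : f x' ∈ f '' closure {x'} := ⟨x', subset_closure rfl, rfl⟩
    have hy : closedPoint A ∈ f '' closure {x'} := by
      have hs : f x' ⤳ closedPoint A := by
        rw [hx'.1]
        exact genericPoint_specializes _
      exact hs.mem_closed hcl hη
    obtain ⟨x₁, hx₁, hfx₁⟩ := hy
    exact ⟨x₁, hx₁, hfx₁⟩
  obtain ⟨x, hxZ, -, hxmax⟩ := exists_maximal_generization Z hZ x₁ hx₁
  have hspec : x' ⤳ x := specializes_iff_mem_closure.mpr hxZ.1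
  have hfx : f x = closedPoint A := hxZ.2
  have hass : FibAssAt f F x := fibAssAt_of_maximal f F hF hflat x x' hfx hx' hspec
    (fun w h1 h2 h3 => hxmax w ⟨specializes_iff_mem_closure.mp h1, h2⟩ h3)
  -- pass to the fibre
  have hxr : x ∈ Set.range (f.fiberι (closedPoint A)) := by
    rw [f.range_fiberι]; exact hfx
  obtain ⟨z, rfl⟩ := hxr
  have hassz := (isAssPoint_fibre_iff f F (closedPoint A) z).mpr hass
  haveI : LocallyOfFiniteType (f.fiberToSpecResidueField (closedPoint A)) :=
    MorphismProperty.pullback_snd _ _ inferInstance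
  haveI : IsLocallyNoetherian (f.fiber (closedPoint A)) :=
    LocallyOfFiniteType.isLocallyNoetherian (f.fiberToSpecResidueField (closedPoint A))
  have hcoh : Coh.IsCoh ((Scheme.Modules.pullback (f.fiberι (closedPoint A))).obj F) :=
    ⟨Groth.Agent.Lead.PB.isQuasicoherent_pullback _ F,
      Groth.Agent.Lead.PB.isFT_pullback _ F hF.2⟩
  have hmaxz := maximal_of_isAssPoint _ hcoh hemb z hassz
  exact ⟨_, (maxIn_fiberι_iff f F hF (closedPoint A) z).mp hmaxz, hspec⟩

/-- the maximal points of the support on the closed fibre are finite in number -/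
theorem finite_maxIn [IsProper f] (F : X.Modules) (hF : Coh.IsCoh F) (t : Spec (CommRingCat.of A))
    (ht : IsClosed ({t} : Set (Spec (CommRingCat.of A)))) :
    {x : X | MaxIn f F t x}.Finite := by
  haveI : IsLocallyNoetherian X := LocallyOfFiniteType.isLocallyNoetherian f
  haveI : CompactSpace X := QuasiCompact.compactSpace_of_compactSpace f
  haveI : IsNoetherian X := {}
  have hcl : IsClosed (CohB1.support F ∩ f ⁻¹' {t}) :=
    (Groth.Agent.Helper1.FtGen.isClosed_support F hF.2).inter (ht.preimage f.continuous)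
  refine (finite_maximal_points _ hcl).subset ?_
  rintro x ⟨hfx, hnt, hmax⟩
  refine ⟨⟨not_subsingleton_iff_nontrivial.mpr hnt, hfx⟩, ?_⟩
  rintro w ⟨hw, hfw⟩ hwx
  exact hmax w hfw (not_subsingleton_iff_nontrivial.mp hw) hwx

/-- **the main theorem** -/
theorem main [IsProper f] (F : X.Modules) (hF : Coh.IsCoh F) (hflat : FlatMod.IsFlatOver f F)
    (hemb : AssSch.NoEmbedded
      ((Scheme.Modules.pullback (f.fiberι (closedPoint A))).obj F)) :
    letI y : ↥(Spec (CommRingCat.of A)) := IsLocalRing.closedPoint A
    letI y' : ↥(Spec (CommRingCat.of A)) := genericPoint (Spec (CommRingCat.of A))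
    ∑ᶠ z' : {v : ↥(f.fiber y') // Nontrivial (((Scheme.Modules.pullback (f.fiberι y')).obj F).presheaf.stalk v) ∧
        ∀ w : ↥(f.fiber y'), Nontrivial (((Scheme.Modules.pullback (f.fiberι y')).obj F).presheaf.stalk w) → v ∈ closure {w} → w = v},
        Module.length ((f.fiber y').presheaf.stalk z'.1) (((Scheme.Modules.pullback (f.fiberι y')).obj F).presheaf.stalk z'.1) ≤
      ∑ᶠ z : {v : ↥(f.fiber y) // Nontrivial (((Scheme.Modules.pullback (f.fiberι y)).obj F).presheaf.stalk v) ∧
        ∀ w : ↥(f.fiber y), Nontrivial (((Scheme.Modules.pullback (f.fiberι y)).obj F).presheaf.stalk w) → v ∈ closure {w} → w = v},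
        Module.length ((f.fiber y).presheaf.stalk z.1) (((Scheme.Modules.pullback (f.fiberι y)).obj F).presheaf.stalk z.1) := by
  haveI : IsLocallyNoetherian X := LocallyOfFiniteType.isLocallyNoetherian f
  -- the map on index sets
  have hφ : ∀ z' : {v : ↥(f.fiber (genericPoint (Spec (CommRingCat.of A)))) // Nontrivial (((Scheme.Modules.pullback (f.fiberι (genericPoint (Spec (CommRingCat.of A))))).obj F).presheaf.stalk v) ∧
        ∀ w : ↥(f.fiber (genericPoint (Spec (CommRingCat.of A)))), Nontrivial (((Scheme.Modules.pullback (f.fiberι (genericPoint (Spec (CommRingCat.of A))))).obj F).presheaf.stalk w) → v ∈ closure {w} → w = v},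
      ∃ z : {v : ↥(f.fiber (closedPoint A)) // Nontrivial (((Scheme.Modules.pullback (f.fiberι (closedPoint A))).obj F).presheaf.stalk v) ∧
        ∀ w : ↥(f.fiber (closedPoint A)), Nontrivial (((Scheme.Modules.pullback (f.fiberι (closedPoint A))).obj F).presheaf.stalk w) → v ∈ closure {w} → w = v},
        f.fiberι (genericPoint (Spec (CommRingCat.of A))) z'.1 ⤳ f.fiberι (closedPoint A) z.1 := by
    intro z'
    have h1 := (maxIn_fiberι_iff f F hF (genericPoint (Spec (CommRingCat.of A))) z'.1).mp z'.2
    obtain ⟨x, hx, hspec⟩ := exists_specialization f F hF hflat hemb _ h1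
    have hxr : x ∈ Set.range (f.fiberι (closedPoint A)) := by
      rw [f.range_fiberι]; exact hx.1
    obtain ⟨z, rfl⟩ := hxr
    exact ⟨⟨z, (maxIn_fiberι_iff f F hF (closedPoint A) z).mpr hx⟩, hspec⟩
  choose φ hφs using hφ
  -- finiteness of the target index set
  haveI : Finite {v : ↥(f.fiber (closedPoint A)) // Nontrivial (((Scheme.Modules.pullback (f.fiberι (closedPoint A))).obj F).presheaf.stalk v) ∧
        ∀ w : ↥(f.fiber (closedPoint A)), Nontrivial (((Scheme.Modules.pullback (f.fiberι (closedPoint A))).obj F).presheaf.stalk w) → v ∈ closure {w} → w = v} := by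
    haveI := (finite_maxIn f F hF (closedPoint A) (isClosed_singleton_closedPoint A)).to_subtype
    refine Finite.of_injective (β := ↥{x : X | MaxIn f F (closedPoint A) x})
      (fun z => ⟨f.fiberι (closedPoint A) z.1, (maxIn_fiberι_iff f F hF (closedPoint A) z.1).mp z.2⟩) ?_
    intro z₁ z₂ h
    apply Subtype.ext
    exact (f.fiberι (closedPoint A)).isEmbedding.injective (congrArg Subtype.val h)
  refine finsum_le_finsum_of_fiberwise _ _ φ ?_
  intro J i hJ
  classical
  have hinj : Set.InjOn (fun j : {v : ↥(f.fiber (genericPoint (Spec (CommRingCat.of A)))) // Nontrivial (((Scheme.Modules.pullback (f.fiberι (genericPoint (Spec (CommRingCat.of A))))).obj F).presheaf.stalk v) ∧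
        ∀ w : ↥(f.fiber (genericPoint (Spec (CommRingCat.of A)))), Nontrivial (((Scheme.Modules.pullback (f.fiberι (genericPoint (Spec (CommRingCat.of A))))).obj F).presheaf.stalk w) → v ∈ closure {w} → w = v} => f.fiberι (genericPoint (Spec (CommRingCat.of A))) j.1) J := by
    intro j₁ _ j₂ _ h
    exact Subtype.ext ((f.fiberι (genericPoint (Spec (CommRingCat.of A)))).isEmbedding.injective h)
  have key := sum_fibLen_le f F hF (f.fiberι (closedPoint A) i.1) (apply_fiberι f (closedPoint A) i.1)
    (J.image (fun j => f.fiberι (genericPoint (Spec (CommRingCat.of A))) j.1)) ?_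
  · rw [Finset.sum_image hinj] at key
    rw [length_fibre_eq f F (closedPoint A) i.1]
    refine le_trans (le_of_eq ?_) key
    refine Finset.sum_congr rfl fun j _ => ?_
    exact length_fibre_eq f F (genericPoint (Spec (CommRingCat.of A))) j.1
  · intro x' hx'
    obtain ⟨j, hj, rfl⟩ := Finset.mem_image.mp hx'
    refine ⟨(maxIn_fiberι_iff f F hF (genericPoint (Spec (CommRingCat.of A))) j.1).mp j.2, ?_⟩
    rw [← hJ j hj]
    exact hφs j

end Main

end Groth.Agent.Lib.Helper5.MaxLen
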